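import Mathlib
import Groth.Agent.Lib.Helper4.FiberChart
import Groth.Agent.Lib.Helper4.FibNoeth1
import Groth.Agent.S4741
import Groth.Prelude.Def_CInt

set_option linter.style.haveILetI false
set_option linter.unusedVariables false
set_option linter.unusedSectionVars false
set_option autoImplicit false
set_option backward.isDefEq.respectTransparency.types false
set_option synthInstance.maxHeartbeats 400000
set_option maxHeartbeats 800000

open CategoryTheory CategoryTheory.Limits AlgebraicGeometry TopologicalSpace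
open scoped TensorProduct

namespace Groth.Agent.Helper7.FibLN

universe u

/-! helper7: fibres of a morphism with locally Noetherian source are locally Noetherian; relative codimension under surjective morphisms -/

open Groth.Agent.Lib.Helper4.FiberChart

/-- Base change of a Noetherian algebra along a quotient of a localization is Noetherian. -/
theorem isNoetherianRing_tensor_of_surj {R A L κ : Type u} [CommRing R] [CommRing A] [Algebra R A]
    [IsNoetherianRing A] [CommRing L] [Algebra R L] (M : Submonoid R) [IsLocalization M L]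
    [CommRing κ] [Algebra R κ] (φ : L →ₐ[R] κ) (hφ : Function.Surjective φ) :
    IsNoetherianRing (A ⊗[R] κ) := by
  haveI : IsLocalization (Algebra.algebraMapSubmonoid A M) (A ⊗[R] L) := inferInstance
  haveI : IsNoetherianRing (A ⊗[R] L) :=
    IsLocalization.isNoetherianRing (Algebra.algebraMapSubmonoid A M) (A ⊗[R] L) inferInstance
  exact isNoetherianRing_of_surjective (A ⊗[R] L) (A ⊗[R] κ)
    (Algebra.TensorProduct.map (AlgHom.id R A) φ).toRingHom
    (Algebra.TensorProduct.map_surjective (f := AlgHom.id R A) (g := φ) Function.surjective_id hφ)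

/-- Every fibre of a morphism with locally Noetherian source is locally Noetherian. -/
theorem isLocallyNoetherian_fiber {X Y : Scheme.{u}} [IsLocallyNoetherian X] (f : X ⟶ Y) (y : Y) :
    IsLocallyNoetherian (f.fiber y) := by
  obtain ⟨V, hV, hyV⟩ : ∃ V : Y.Opens, IsAffineOpen V ∧ y ∈ V := by
    obtain ⟨_, ⟨V, hV : IsAffineOpen V, rfl⟩, hyV, -⟩ :=
      Y.isBasis_affineOpens.exists_subset_of_mem_open (Set.mem_univ y) isOpen_univ
    exact ⟨V, hV, hyV⟩
  have key : ∀ z : f.fiber y, ∃ (T : CommRingCat.{u}) (l : Spec T ⟶ f.fiber y),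
      IsNoetherianRing T ∧ IsOpenImmersion l ∧ z ∈ Set.range l := by
    intro z
    have hz : f (f.fiberι y z) = y := by
      have h1 : f.fiberι y z ∈ Set.range (f.fiberι y) := ⟨z, rfl⟩
      rw [f.range_fiberι y] at h1
      exact h1
    have hzV : f.fiberι y z ∈ f ⁻¹ᵁ V := by
      show f (f.fiberι y z) ∈ V
      rw [hz]; exact hyV
    obtain ⟨_, ⟨U, hU : IsAffineOpen U, rfl⟩, hzU, hUV⟩ :=
      X.isBasis_affineOpens.exists_subset_of_mem_open hzV (f ⁻¹ᵁ V).2
    obtain ⟨l, hl, -, hr⟩ := fiberChart f hV hU hUV y hyV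
    refine ⟨_, l, ?_, hl, ?_⟩
    · letI := (f.appLE V U hUV).hom.toAlgebra
      letI := (Y.evaluation V y hyV).hom.toAlgebra
      letI : Algebra Γ(Y, V) (Y.presheaf.stalk y) :=
        TopCat.Presheaf.algebra_section_stalk Y.presheaf ⟨y, hyV⟩
      haveI : IsLocalization (hV.primeIdealOf ⟨y, hyV⟩).asIdeal.primeCompl
          (Y.presheaf.stalk y) := hV.isLocalization_stalk ⟨y, hyV⟩
      haveI : IsNoetherianRing Γ(X, U) := IsLocallyNoetherian.component_noetherian ⟨U, hU⟩
      let φ : Y.presheaf.stalk y →ₐ[Γ(Y, V)] Y.residueField y :=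
        { (Y.residue y).hom with commutes' := fun r => rfl }
      exact isNoetherianRing_tensor_of_surj (hV.primeIdealOf ⟨y, hyV⟩).asIdeal.primeCompl φ
        (Y.residue_surjective y)
    · rw [hr]; exact hzU
  choose T l hT hl hz using key
  let 𝒰 : (f.fiber y).OpenCover := Scheme.Cover.mkOfCovers (f.fiber y) (fun z => Spec (T z)) l
    (fun z => by obtain ⟨w, hw⟩ := hz z; exact ⟨z, w, hw⟩) hl
  rw [isLocallyNoetherian_iff_openCover 𝒰]
  intro z
  show IsLocallyNoetherian (Spec (T z))
  infer_instance

/-- The local ring of the fibre at a point, versus `CInt.fiberStalk`. -/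
theorem fiberStalk_dim_eq {X S : Scheme.{u}} (f : X ⟶ S) (s : S) (z : f.fiber s) :
    ringKrullDim (CInt.fiberStalk f (f.fiberι s z)) =
      ringKrullDim ((f.fiber s).presheaf.stalk z) := by
  have h : f.base (f.fiberι s z) = s := by
    have h1 : f.fiberι s z ∈ Set.range (f.fiberι s) := ⟨z, rfl⟩
    rw [f.range_fiberι s] at h1
    exact h1
  generalize hx : f.fiberι s z = x at h
  subst h
  have h2 : z = f.asFiber x := by
    apply (f.fiberι (f.base x)).isEmbedding.injective
    rw [hx, f.fiberι_asFiber]
  rw [h2]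

/-- Relative codimension and surjective morphisms. -/
theorem main {X X' S : Scheme.{u}} [IsLocallyNoetherian X] [IsLocallyNoetherian X']
    (f : X ⟶ S) (g : X' ⟶ X) [Surjective g] (Y : Set ↥X) (hY : IsClosed Y) :
    (⨅ y' : (fun x' => g x') ⁻¹' Y, ringKrullDim ↑(CInt.fiberStalk (g ≫ f) y'.1)) ≤
      ⨅ y : Y, ringKrullDim ↑(CInt.fiberStalk f y.1) := by
  refine le_iInf fun ⟨y, hy⟩ => ?_
  let gs : (g ≫ f).fiber (f.base y) ⟶ f.fiber (f.base y) :=
    pullback.map (g ≫ f) (S.fromSpecResidueField (f.base y)) f (S.fromSpecResidueField (f.base y))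
      g (𝟙 _) (𝟙 _) (by simp) (by simp)
  have hPB : IsPullback gs ((g ≫ f).fiberι (f.base y)) (f.fiberι (f.base y)) g :=
    Groth.Agent.Lib.Helper4.FibNoeth1.isPullback_map_comp f g (S.fromSpecResidueField (f.base y))
  have hsurj : Surjective gs :=
    MorphismProperty.of_isPullback (P := @Surjective) hPB.flip inferInstance
  haveI := isLocallyNoetherian_fiber f (f.base y)
  haveI := isLocallyNoetherian_fiber (g ≫ f) (f.base y)
  have h1 := (Groth.Agent.S4741.result gs hsurj.surj (closure {f.asFiber y}) isClosed_closure).1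
  have h2 : (⨅ w ∈ closure {f.asFiber y}, ringKrullDim ((f.fiber (f.base y)).presheaf.stalk w)) ≤
      ringKrullDim (CInt.fiberStalk f y) := iInf₂_le (f.asFiber y) (subset_closure (Set.mem_singleton _))
  refine le_trans ?_ (h1.trans h2)
  refine le_iInf₂ fun w hw => ?_
  have hw' : g ((g ≫ f).fiberι (f.base y) w) ∈ Y := by
    have e1 : g ((g ≫ f).fiberι (f.base y) w) = f.fiberι (f.base y) (gs w) := by
      have := congrArg (fun k => k.base w) hPB.w
      simpa using this.symm
    rw [e1]
    have h3 : f.fiberι (f.base y) (gs w) ∈ closure ((f.fiberι (f.base y)) '' {f.asFiber y}) :=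
      image_closure_subset_closure_image (f.fiberι (f.base y)).continuous ⟨_, hw, rfl⟩
    rw [Set.image_singleton, f.fiberι_asFiber] at h3
    exact (hY.closure_subset_iff.mpr (Set.singleton_subset_iff.mpr hy)) h3
  rw [← fiberStalk_dim_eq (g ≫ f) (f.base y) w]
  exact iInf_le (fun y' : (fun x' => g x') ⁻¹' Y => ringKrullDim (CInt.fiberStalk (g ≫ f) y'.1))
    ⟨(g ≫ f).fiberι (f.base y) w, hw'⟩

end Groth.Agent.Helper7.FibLN
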