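import Mathlib
import Groth.Agent.Lib.Helper7.FibLN.Main
import Groth.Agent.Lib.Helper7.CIBC.Main

set_option linter.style.haveILetI false
set_option linter.unusedVariables false
set_option linter.unusedSectionVars false
set_option autoImplicit false
set_option backward.isDefEq.respectTransparency.types false
set_option synthInstance.maxHeartbeats 400000
set_option maxHeartbeats 800000

open CategoryTheory CategoryTheory.Limits AlgebraicGeometry TopologicalSpace
open scoped TensorProduct

namespace Groth.Agent.Helper7.FibLN

universe u

/-! helper7: relative codimension (fibre stalk dimensions) under base change -/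

theorem flat_SpecMap_of_field {K L : CommRingCat.{u}} (hK : IsField K) (φ : K ⟶ L) :
    Flat (Spec.map φ) := by
  rw [HasRingHomProperty.Spec_iff (P := @Flat)]
  letI := hK.toField
  algebraize [φ.hom]
  show Module.Flat K L
  infer_instance

variable {X S S' : Scheme.{u}} (f : X ⟶ S) (g : S' ⟶ S)

/-- The comparison morphism of fibres under base change, with its compatibility. -/
theorem exists_cmp' (s' : S') :
    ∃ c : (pullback.snd f g).fiber s' ⟶ f.fiber (g.base s'),
      IsPullback c ((pullback.snd f g).fiberToSpecResidueField s')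
        (f.fiberToSpecResidueField (g.base s')) (Spec.map (g.residueFieldMap s')) ∧
      c ≫ f.fiberι (g.base s') = (pullback.snd f g).fiberι s' ≫ pullback.fst f g :=
  ⟨_, isPullback_fiberToSpecResidueField_of_isPullback (IsPullback.of_hasPullback f g) s',
    pullback.lift_fst _ _ _⟩

/-- Relative codimension and base change. -/
theorem main_bc [IsLocallyNoetherian X] [IsLocallyNoetherian (pullback f g)]
    (Y : Set ↥X) (hY : IsClosed Y) :
    ((⨅ y : Y, ringKrullDim ↑(CInt.fiberStalk f y.1)) ≤
      ⨅ y' : (fun x' => (pullback.fst f g) x') ⁻¹' Y,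
        ringKrullDim ↑(CInt.fiberStalk (pullback.snd f g) y'.1)) ∧
    (Y ⊆ Set.range (pullback.fst f g).base →
      (⨅ y' : (fun x' => (pullback.fst f g) x') ⁻¹' Y,
        ringKrullDim ↑(CInt.fiberStalk (pullback.snd f g) y'.1)) =
        ⨅ y : Y, ringKrullDim ↑(CInt.fiberStalk f y.1)) := by
  have flatc : ∀ (s' : S') (c : (pullback.snd f g).fiber s' ⟶ f.fiber (g.base s')),
      IsPullback c ((pullback.snd f g).fiberToSpecResidueField s')
        (f.fiberToSpecResidueField (g.base s')) (Spec.map (g.residueFieldMap s')) → Flat c := by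
    intro s' c hc
    exact MorphismProperty.of_isPullback (P := @Flat) hc.flip
      (flat_SpecMap_of_field (Field.toIsField _) _)
  have part1 : (⨅ y : Y, ringKrullDim ↑(CInt.fiberStalk f y.1)) ≤
      ⨅ y' : (fun x' => (pullback.fst f g) x') ⁻¹' Y,
        ringKrullDim ↑(CInt.fiberStalk (pullback.snd f g) y'.1) := by
    refine le_iInf fun ⟨y', hy'⟩ => ?_
    obtain ⟨c, hc, hcomm⟩ := exists_cmp' f g ((pullback.snd f g).base y')
    haveI := flatc _ c hc
    haveI := isLocallyNoetherian_fiber f (g.base ((pullback.snd f g).base y'))
    haveI := isLocallyNoetherian_fiber (pullback.snd f g) ((pullback.snd f g).base y')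
    have e1 : f.fiberι (g.base ((pullback.snd f g).base y'))
        (c.base ((pullback.snd f g).asFiber y')) = (pullback.fst f g).base y' := by
      have := congrArg (fun k => k.base ((pullback.snd f g).asFiber y')) hcomm
      simp only [Scheme.Hom.comp_base, TopCat.comp_app] at this
      rw [this, (pullback.snd f g).fiberι_asFiber]
    have e2 := fiberStalk_dim_eq f (g.base ((pullback.snd f g).base y'))
      (c.base ((pullback.snd f g).asFiber y'))
    rw [e1] at e2
    refine (iInf_le (fun y : Y => ringKrullDim ↑(CInt.fiberStalk f y.1))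
      ⟨(pullback.fst f g).base y', hy'⟩).trans ?_
    show ringKrullDim ↑(CInt.fiberStalk f ((pullback.fst f g).base y')) ≤ _
    rw [e2]
    exact Groth.Agent.Helper3.StalkDim.dim_le_of_flat c ((pullback.snd f g).asFiber y')
  refine ⟨part1, fun hsurj => le_antisymm ?_ part1⟩
  refine le_iInf fun ⟨y, hy⟩ => ?_
  obtain ⟨x', hx'⟩ := hsurj hy
  obtain ⟨c, hc, hcomm⟩ := exists_cmp' f g ((pullback.snd f g).base x')
  haveI := isLocallyNoetherian_fiber f (g.base ((pullback.snd f g).base x'))
  haveI := isLocallyNoetherian_fiber (pullback.snd f g) ((pullback.snd f g).base x')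
  have hcs := Groth.Agent.Helper7.CIBC.surjective_of_isPullback f g _ c hc
  have ecomm : ∀ w, f.fiberι (g.base ((pullback.snd f g).base x')) (c.base w) =
      (pullback.fst f g).base ((pullback.snd f g).fiberι ((pullback.snd f g).base x') w) := by
    intro w
    have := congrArg (fun k => k.base w) hcomm
    simpa only [Scheme.Hom.comp_base, TopCat.comp_app] using this
  have e1 : f.fiberι (g.base ((pullback.snd f g).base x'))
      (c.base ((pullback.snd f g).asFiber x')) = y := by
    rw [ecomm, (pullback.snd f g).fiberι_asFiber, hx']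
  have e2 := fiberStalk_dim_eq f (g.base ((pullback.snd f g).base x'))
    (c.base ((pullback.snd f g).asFiber x'))
  rw [e1] at e2
  show _ ≤ ringKrullDim ↑(CInt.fiberStalk f y)
  rw [e2]
  have h1 := (Groth.Agent.S4741.result c hcs
    (closure {c.base ((pullback.snd f g).asFiber x')}) isClosed_closure).1
  have h2 : (⨅ w ∈ closure {c.base ((pullback.snd f g).asFiber x')},
      ringKrullDim ((f.fiber (g.base ((pullback.snd f g).base x'))).presheaf.stalk w)) ≤
      ringKrullDim ((f.fiber (g.base ((pullback.snd f g).base x'))).presheaf.stalk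
        (c.base ((pullback.snd f g).asFiber x'))) :=
    iInf₂_le _ (subset_closure (Set.mem_singleton _))
  refine le_trans ?_ (h1.trans h2)
  refine le_iInf₂ fun w hw => ?_
  have hw' : (pullback.fst f g).base
      ((pullback.snd f g).fiberι ((pullback.snd f g).base x') w) ∈ Y := by
    rw [← ecomm]
    have h3 : f.fiberι (g.base ((pullback.snd f g).base x')) (c.base w) ∈
        closure ((f.fiberι (g.base ((pullback.snd f g).base x'))) ''
          {c.base ((pullback.snd f g).asFiber x')}) :=
      image_closure_subset_closure_image
        (f.fiberι (g.base ((pullback.snd f g).base x'))).continuous ⟨_, hw, rfl⟩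
    rw [Set.image_singleton, e1] at h3
    exact (hY.closure_subset_iff.mpr (Set.singleton_subset_iff.mpr hy)) h3
  rw [← fiberStalk_dim_eq (pullback.snd f g) ((pullback.snd f g).base x') w]
  exact iInf_le (fun y' : (fun x' => (pullback.fst f g) x') ⁻¹' Y =>
    ringKrullDim (CInt.fiberStalk (pullback.snd f g) y'.1))
    ⟨(pullback.snd f g).fiberι ((pullback.snd f g).base x') w, hw'⟩

end Groth.Agent.Helper7.FibLN
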