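import Mathlib
import Groth.Agent.Lib.Helper7.FibLN.Main
import Groth.Agent.Lib.Helper7.MaxPt
import Groth.Agent.Lib.Helper4.Equi10
import Groth.Agent.S9367
import Groth.Agent.S9699

set_option linter.style.haveILetI false
set_option linter.unusedVariables false
set_option linter.unusedSectionVars false
set_option autoImplicit false
set_option backward.isDefEq.respectTransparency.types false
set_option synthInstance.maxHeartbeats 400000
set_option maxHeartbeats 800000

open CategoryTheory CategoryTheory.Limits AlgebraicGeometry TopologicalSpace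
open scoped TensorProduct

namespace Groth.Agent.Helper7.FibLN

universe u

/-! helper7: relative codimension equals codimension for smooth closed subschemes of smooth schemes; fibre stalk is a quotient of the stalk -/

open Groth.Agent.Lib.Helper4.FibDim1

theorem le_of_add_nat_le (a b : WithBot ℕ∞) (m : ℕ)
    (h : a + (m : WithBot ℕ∞) ≤ b + (m : WithBot ℕ∞)) : a ≤ b := by
  induction a using WithBot.recBotCoe with
  | bot => exact bot_le
  | coe a' =>
    induction b using WithBot.recBotCoe with
    | bot =>
      exfalso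
      rw [WithBot.bot_add] at h
      have h2 := le_bot_iff.mp h
      rw [WithBot.add_eq_bot] at h2
      rcases h2 with h2 | h2
      · exact WithBot.coe_ne_bot h2
      · exact WithBot.natCast_ne_bot m h2
    | coe b' =>
      have h3 : ((a' + (m : ℕ∞) : ℕ∞) : WithBot ℕ∞) ≤ ((b' + (m : ℕ∞) : ℕ∞) : WithBot ℕ∞) := by
        simpa only [WithBot.coe_add, WithBot.coe_natCast] using h
      rw [WithBot.coe_le_coe] at h3
      rw [WithBot.coe_le_coe]
      exact (ENat.add_le_add_iff_right (ENat.natCast_ne_top m)).mp h3

theorem apply_eq_of_specializes {α β : Type*} [TopologicalSpace α] {φ : α → β}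
    (hφ : IsLocallyConstant φ) {x y : α} (h : x ⤳ y) : φ x = φ y :=
  h.mem_open (hφ.isOpen_fiber (φ y)) rfl

theorem dim_stalk_congr {X : Scheme.{u}} {a b : X} (h : a = b) :
    ringKrullDim (X.presheaf.stalk a) = ringKrullDim (X.presheaf.stalk b) := by
  subst h; rfl

/-- The local ring of the fibre is a quotient of the local ring of the source. -/
theorem fiberStalk_dim_le {X S : Scheme.{u}} (f : X ⟶ S) (y : X) :
    ringKrullDim (CInt.fiberStalk f y) ≤ ringKrullDim (X.presheaf.stalk y) := by
  have h := ringKrullDim_le_of_surjective ((f.fiberι (f.base y)).stalkMap (f.asFiber y)).hom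
    ((f.fiberι (f.base y)).stalkMap_surjective (f.asFiber y))
  rw [dim_stalk_congr (f.fiberι_asFiber y)] at h
  exact h

theorem stalk_dim_zero_of_max {S : Scheme.{u}} (s : S) (hs : ∀ s' : S, s' ⤳ s → s' = s) :
    ringKrullDim (S.presheaf.stalk s) = 0 := by
  rw [AlgebraicGeometry.ringKrullDim_stalk_eq_coheight]
  have : Order.coheight s = 0 := by
    rw [Order.coheight_eq_zero]
    intro s' hs'
    rw [hs s' (Scheme.le_iff_specializes.mp hs')]
  rw [this]
  rfl

/-- Smooth closed subschemes of smooth schemes: relative codimension equals codimension. -/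
theorem main_smooth {X Y S : Scheme.{u}} [IsLocallyNoetherian X] [IsLocallyNoetherian S]
    (f : X ⟶ S) [Smooth f] (i : Y ⟶ X) [IsClosedImmersion i] [Smooth (i ≫ f)] :
    (⨅ y : Set.range i.base, ringKrullDim ↑(CInt.fiberStalk f y.1)) =
      ⨅ y : Set.range i.base, ringKrullDim ↑(X.presheaf.stalk y.1) := by
  apply le_antisymm
  · exact iInf_mono fun y => fiberStalk_dim_le f y.1
  · refine le_iInf fun ⟨y, t, ht⟩ => ?_
    subst ht
    obtain ⟨t0, ht0, hmax⟩ := Groth.Agent.Helper7.MaxPt.exists_maximal_generization t
    refine (iInf_le (fun y : Set.range i.base => ringKrullDim ↑(X.presheaf.stalk y.1))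
      ⟨i.base t0, t0, rfl⟩).trans ?_
    show ringKrullDim (X.presheaf.stalk (i.base t0)) ≤
      ringKrullDim (CInt.fiberStalk f (i.base t))
    haveI : LocallyOfFiniteType f := inferInstance
    haveI : LocallyOfFiniteType (i ≫ f) := inferInstance
    haveI : Flat (i ≫ f) := inferInstance
    -- local constancy
    have lcf := Groth.Agent.S9367.result f (Groth.Agent.S9699.result f)
    have lcg := Groth.Agent.S9367.result (i ≫ f) (Groth.Agent.S9699.result (i ≫ f))
    have hsp : i.base t0 ⤳ i.base t := ht0.map i.continuous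
    have e5f : FlatMor.fibreDimAt f (i.base t0) = FlatMor.fibreDimAt f (i.base t) :=
      apply_eq_of_specializes lcf hsp
    have e5g : FlatMor.fibreDimAt (i ≫ f) t0 = FlatMor.fibreDimAt (i ≫ f) t :=
      apply_eq_of_specializes lcg ht0
    -- dimension formulas
    have e1 := Groth.Agent.Lib.Helper4.FibDim3.fibreDimAt_eq f (i.base t)
    have e3 := Groth.Agent.Lib.Helper4.FibDim3.fibreDimAt_eq f (i.base t0)
    have e2 := Groth.Agent.Lib.Helper4.Equi10.tr_le_fibreDimAt_nn (i ≫ f) t
    have e4 := Groth.Agent.Lib.Helper4.Equi10.fibreDimAt_eq_tr_of_max_nn (i ≫ f) t0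
      (fun z' _ hz' => hmax z' hz')
    rw [Groth.Agent.Lib.Helper4.Equi10.tr_comp_closedImmersion f i t] at e2
    rw [Groth.Agent.Lib.Helper4.Equi10.tr_comp_closedImmersion f i t0] at e4
    rw [← e5g, e4] at e2
    have htr : tr f (i.base t) ≤ tr f (i.base t0) := by exact_mod_cast e2
    rw [e5f, e1] at e3
    -- e3 : D(y) + tr y = D(y0) + tr y0
    have hD : ringKrullDim ((f.fiber (f.base (i.base t0))).presheaf.stalk (f.asFiber (i.base t0))) ≤
        ringKrullDim ((f.fiber (f.base (i.base t))).presheaf.stalk (f.asFiber (i.base t))) := by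
      apply le_of_add_nat_le _ _ (tr f (i.base t0))
      rw [← e3]
      gcongr
    -- the base point is maximal
    have hs0 : ringKrullDim (S.presheaf.stalk (f.base (i.base t0))) = 0 := by
      apply stalk_dim_zero_of_max
      intro s' hs'
      obtain ⟨t1, ht1, rfl⟩ := (Flat.generalizingMap (i ≫ f)) hs'
      rw [hmax t1 ht1]
      rfl
    have h6 := Groth.Agent.Lib.Helper4.FibreStalkDim1.S3447_main f (i.base t0)
    rw [hs0, zero_add] at h6
    exact h6.trans hD

end Groth.Agent.Helper7.FibLN
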